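import Cfsg.Agent.S1350
import Cfsg.Agent.S1404
import Cfsg.Agent.S1405
import Cfsg.Agent.S1406
import Cfsg.Agent.S1408
import Cfsg.Agent.S1411
import Cfsg.Agent.S1412
import Cfsg.Agent.S1414
import Cfsg.Agent.S1416
import Cfsg.Agent.S1417
import Cfsg.Agent.S1418
import Cfsg.Agent.S1419
import Cfsg.Agent.S1420
import Cfsg.Agent.S1403
import Cfsg.Agent.S1422

/-!
Results of earlier sections used by sections 13 and 14, gathered in one place (each entry is to be
pointed at its proof as soon as that lands).
-/

set_option autoImplicit false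

namespace Cfsg.Agent.Lib.OddMax.Sec13

alias bg1350 := Cfsg.Agent.S1350.result
alias bg1403 := Cfsg.Agent.S1403.result
alias bg1404 := Cfsg.Agent.S1404.result
alias bg1405 := Cfsg.Agent.S1405.result
alias bg1406 := Cfsg.Agent.S1406.result
alias bg1408 := Cfsg.Agent.S1408.result
alias bg1411 := Cfsg.Agent.S1411.result
alias bg1412 := Cfsg.Agent.S1412.result
alias bg1414 := Cfsg.Agent.S1414.result
alias bg1416 := Cfsg.Agent.S1416.result
alias bg1417 := Cfsg.Agent.S1417.result
alias bg1418 := Cfsg.Agent.S1418.result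
alias bg1419 := Cfsg.Agent.S1419.result
alias bg1420 := Cfsg.Agent.S1420.result
alias bg1422 := Cfsg.Agent.S1422.result

end Cfsg.Agent.Lib.OddMax.Sec13
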